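import Mathlib.AlgebraicGeometry.Modules.Tilde
import Mathlib.Algebra.Category.ModuleCat.ChangeOfRings

set_option autoImplicit false
set_option backward.isDefEq.respectTransparency.types false

noncomputable section

universe u

open CategoryTheory Limits AlgebraicGeometry Opposite TopologicalSpace

namespace Groth.Agent.QCohAffine

variable {R S : CommRingCat.{u}} (φ : R ⟶ S)

lemma smul_pushforward_Spec (N : (Spec S).Modules) (r : R)
    (x : Γ((Scheme.Modules.pushforward (Spec.map φ)).obj N, ⊤)) :
    (r • x : Γ((Scheme.Modules.pushforward (Spec.map φ)).obj N, ⊤)) =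
      ((φ.hom r) • (show Γ(N, ⊤) from x) : Γ(N, ⊤)) := by
  rw [Scheme.Modules.smul_Spec_def, Scheme.Modules.smul_Spec_def]
  have h := ConcreteCategory.congr_hom (Scheme.ΓSpecIso_inv_naturality φ) r
  simp only [ConcreteCategory.comp_apply] at h
  change (show Γ(Spec S, ⊤) from
      (Spec.map φ).app ⊤ ((Spec R).presheaf.map (Opens.leTop (⊤ : (Spec R).Opens)).op
      ((Scheme.ΓSpecIso R).inv r))) • (show Γ(N, ⊤) from x) = _
  rw [show (Opens.leTop (⊤ : (Spec R).Opens)).op = 𝟙 _ from rfl,
    show (Opens.leTop (⊤ : (Spec S).Opens)).op = 𝟙 _ from rfl,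
    (Spec R).presheaf.map_id, (Spec S).presheaf.map_id]
  exact congrArg (fun c : Γ(Spec S, ⊤) ↦ c • (show Γ(N, ⊤) from x)) h.symm

/-- An isomorphism of modules from an additive equivalence compatible with scalars. -/
def isoOfAddEquiv {A : Type u} [Ring A] {X Y : ModuleCat.{u} A} (e : X ≃+ Y)
    (h : ∀ (a : A) (x : X), e (a • x) = a • e x) : X ≅ Y :=
  LinearEquiv.toModuleIso { e with map_smul' := h }

/-- Global sections commute with pushforward along `Spec` maps. -/
def pushforwardΓIso :
    Scheme.Modules.pushforward (Spec.map φ) ⋙ moduleSpecΓFunctor (R := R) ≅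
      moduleSpecΓFunctor (R := S) ⋙ ModuleCat.restrictScalars φ.hom :=
  NatIso.ofComponents (fun N ↦ isoOfAddEquiv (AddEquiv.refl Γ(N, ⊤))
    fun r x ↦ smul_pushforward_Spec φ N r x) fun f ↦ rfl

/-- Pullback of `tilde` along a map of affine schemes is `tilde` of the base change. -/
def pullbackTildeIso :
    tilde.functor R ⋙ Scheme.Modules.pullback (Spec.map φ) ≅
      ModuleCat.extendScalars φ.hom ⋙ tilde.functor S :=
  Adjunction.leftAdjointUniq
    ((tilde.adjunction (R := R)).comp (Scheme.Modules.pullbackPushforwardAdjunction (Spec.map φ)))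
    (((ModuleCat.extendRestrictScalarsAdj φ.hom).comp (tilde.adjunction (R := S))).ofNatIsoRight
      (pushforwardΓIso φ).symm)

end Groth.Agent.QCohAffine

namespace Groth.Agent.QCohAffine

open TensorProduct

/-- `extendScalars` along `algebraMap` is the tensor product. -/
lemma nonempty_extendScalars_iso {A' A : Type u} [CommRing A'] [CommRing A] [inst : Algebra A' A]
    (N : Type u) [AddCommGroup N] [Module A' N] (f : A' →+* A) (hf : algebraMap A' A = f) :
    Nonempty ((ModuleCat.extendScalars f).obj (ModuleCat.of A' N) ≅ ModuleCat.of A (A ⊗[A'] N)) := by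
  obtain rfl : inst = f.toAlgebra := Algebra.algebra_ext _ _ fun a ↦ by rw [hf]; rfl
  letI : Algebra A' A := f.toAlgebra
  refine ⟨isoOfAddEquiv (X := (ModuleCat.extendScalars f).obj (ModuleCat.of A' N))
    (Y := ModuleCat.of A (A ⊗[A'] N)) (AddEquiv.refl (A ⊗[A'] N)) fun a x ↦ ?_⟩
  change (A ⊗[A'] N) at x
  induction x using TensorProduct.induction_on with
  | zero => exact (smul_zero a).trans (smul_zero a).symm
  | tmul b n => rfl
  | add x y hx hy =>
    exact (smul_add a x y).trans ((congrArg₂ (· + ·) hx hy).trans (smul_add a x y).symm)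

end Groth.Agent.QCohAffine
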