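import Mathlib.AlgebraicGeometry.Modules.Tilde
import Mathlib.Algebra.Category.Grp.Limits
import Mathlib.Algebra.Category.Grp.Kernels
import Mathlib.Algebra.Homology.ShortComplex.Ab

set_option autoImplicit false
set_option backward.isDefEq.respectTransparency.types false

noncomputable section

universe u

open CategoryTheory Limits AlgebraicGeometry Opposite TopologicalSpace

namespace Groth.Agent.QCohAffine

variable {X : Scheme.{u}}

instance preservesKernels_toPresheaf_eval (U : X.Opens) :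
    PreservesLimitsOfShape WalkingParallelPair
      (Scheme.Modules.toPresheaf X ⋙ (evaluation X.Opensᵒᵖ Ab.{u}).obj (op U)) := by
  have : PreservesLimitsOfShape WalkingParallelPair ((evaluation X.Opensᵒᵖ Ab.{u}).obj (op U)) :=
    inferInstance
  exact @comp_preservesLimitsOfShape _ _ _ _ _ _ _ _ (Scheme.Modules.toPresheaf X) _ inferInstance this

/-- Sections of the kernel of a morphism of modules. -/
lemma kernel_ι_app_injective {F G : X.Modules} (f : F ⟶ G) (U : X.Opens) :
    Function.Injective ((kernel.ι f).app U) := by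
  let T := Scheme.Modules.toPresheaf X ⋙ (evaluation X.Opensᵒᵖ Ab.{u}).obj (op U)
  have : T.PreservesZeroMorphisms := ⟨fun A B ↦ rfl⟩
  have h : Mono (T.map (kernel.ι f)) :=
    mono_of_isLimit_fork ((KernelFork.ofι (kernel.ι f) (kernel.condition f)).mapIsLimit
      (kernelIsKernel f) T)
  exact (AddCommGrpCat.mono_iff_injective _).mp h

lemma exists_kernel_app_eq {F G : X.Modules} (f : F ⟶ G) (U : X.Opens) (x : Γ(F, U))
    (hx : f.app U x = 0) : ∃ y, (kernel.ι f).app U y = x := by
  let T := Scheme.Modules.toPresheaf X ⋙ (evaluation X.Opensᵒᵖ Ab.{u}).obj (op U)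
  have : T.PreservesZeroMorphisms := ⟨fun A B ↦ rfl⟩
  let S := ShortComplex.mk (kernel.ι f) f (kernel.condition f)
  have h : (S.map T).Exact :=
    ShortComplex.exact_of_f_is_kernel _ ((KernelFork.ofι (kernel.ι f) (kernel.condition f)).mapIsLimit
      (kernelIsKernel f) T)
  exact (ShortComplex.ab_exact_iff _).mp h x hx

lemma mem_range_kernel_app_iff {F G : X.Modules} (f : F ⟶ G) (U : X.Opens) (x : Γ(F, U)) :
    x ∈ Set.range ((kernel.ι f).app U) ↔ f.app U x = 0 := by
  refine ⟨?_, exists_kernel_app_eq f U x⟩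
  rintro ⟨y, rfl⟩
  rw [← ConcreteCategory.comp_apply, ← Scheme.Modules.Hom.comp_app, kernel.condition,
    Scheme.Modules.Hom.zero_app]
  rfl

variable {R : CommRingCat.{u}}

lemma app_smul_Spec {M N : (Spec R).Modules} (φ : M ⟶ N) (U : (Spec R).Opens) (r : R) (x : Γ(M, U)) :
    φ.app U (r • x) = r • φ.app U x := by
  rw [Scheme.Modules.smul_Spec_def, Scheme.Modules.smul_Spec_def, Scheme.Modules.Hom.app_smul]

lemma app_map {M N : X.Modules} (φ : M ⟶ N) {U V : X.Opens} (i : U ⟶ V) (x : Γ(M, V)) :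
    φ.app U (M.presheaf.map i.op x) = N.presheaf.map i.op (φ.app V x) :=
  congr($(φ.mapPresheaf.naturality i.op) x)

/-- The kernel of a morphism between quasi-coherent modules on an affine scheme is quasi-coherent. -/
theorem isIso_fromTildeΓ_kernel {F G : (Spec R).Modules} (f : F ⟶ G) [IsIso F.fromTildeΓ]
    [IsIso G.fromTildeΓ] : IsIso (kernel f).fromTildeΓ := by
  rw [isIso_fromTildeΓ_iff_isLocalizing]
  intro g
  have hF : IsLocalizing (modulesSpecToSheaf.obj F) := (isIso_fromTildeΓ_iff_isLocalizing F).mp ‹_›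
  have hG : IsLocalizing (modulesSpecToSheaf.obj G) := (isIso_fromTildeΓ_iff_isLocalizing G).mp ‹_›
  let D : (Spec R).Opens := PrimeSpectrum.basicOpen g
  let ι := kernel.ι f
  have hι : ∀ U, Function.Injective (ι.app U) := kernel_ι_app_injective f
  refine ⟨?_, ?_, ?_⟩
  · rintro ⟨_, n, rfl⟩
    have := (kernel f).isUnit_algebraMap_end_of_le_basicOpen (U := D) g le_rfl
    rw [map_pow]
    exact this.pow n
  · intro (x : Γ(kernel f, D))
    obtain ⟨⟨y, ⟨_, n, rfl⟩⟩, hy⟩ := (hF g).surj (ι.app D x)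
    change Γ(F, ⊤) at y
    replace hy : (g ^ n) • ι.app D x = F.presheaf.map D.leTop.op y := hy
    have h0 : G.presheaf.map D.leTop.op (f.app ⊤ y) = 0 := by
      rw [← app_map, ← hy, app_smul_Spec,
        (mem_range_kernel_app_iff f D _).mp ⟨x, rfl⟩, smul_zero]
    obtain ⟨⟨_, m, rfl⟩, hm⟩ := (IsLocalizedModule.eq_zero_iff (.powers g)
      ((modulesSpecToSheaf.obj G).obj.map D.leTop.op).hom).1 h0
    replace hm : (g ^ m) • f.app ⊤ y = 0 := hm
    obtain ⟨z, hz⟩ := exists_kernel_app_eq f ⊤ ((g ^ m) • y) (by rw [app_smul_Spec, hm])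
    refine ⟨⟨z, ⟨g ^ (m + n), m + n, rfl⟩⟩, ?_⟩
    change (g ^ (m + n)) • x = (kernel f).presheaf.map D.leTop.op z
    apply hι D
    rw [app_smul_Spec, app_map, hz, Scheme.Modules.map_smul_Spec, ← hy, ← mul_smul, pow_add]
  · intro (x : Γ(kernel f, ⊤)) (y : Γ(kernel f, ⊤)) hxy
    replace hxy : (kernel f).presheaf.map D.leTop.op x = (kernel f).presheaf.map D.leTop.op y := hxy
    have h1 := congrArg (ι.app D) hxy
    rw [app_map, app_map] at h1
    obtain ⟨⟨c, hc⟩, hc'⟩ := (hF g).exists_of_eq h1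
    refine ⟨⟨c, hc⟩, hι ⊤ ?_⟩
    change ι.app ⊤ (c • x) = ι.app ⊤ (c • y)
    rw [app_smul_Spec, app_smul_Spec]
    exact hc'

theorem isQuasicoherent_kernel {F G : (Spec R).Modules} (f : F ⟶ G) [F.IsQuasicoherent]
    [G.IsQuasicoherent] : (kernel f).IsQuasicoherent :=
  (isQuasicoherent_iff_isIso_fromTildeΓ _).mpr (isIso_fromTildeΓ_kernel f)

end Groth.Agent.QCohAffine
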