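import Groth.Prelude.Def_Omega2
import Groth.Agent.QCohAffine.Kernel
import Groth.Agent.QCohAffine.PullTilde
import Groth.Agent.FpqcDescent.IdealComap
import Mathlib.RingTheory.Kaehler.Basic
import Mathlib.AlgebraicGeometry.Pullbacks

set_option autoImplicit false
set_option backward.isDefEq.respectTransparency.types false

noncomputable section

universe u

open CategoryTheory Limits AlgebraicGeometry Opposite TopologicalSpace TensorProduct

namespace Groth.Agent.QCohAffine

/-- Pushforward along an isomorphism, as an equivalence. -/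
def pushforwardEquiv {X Y : Scheme.{u}} (e : X ≅ Y) : X.Modules ≌ Y.Modules :=
  CategoryTheory.Equivalence.mk (Scheme.Modules.pushforward e.hom) (Scheme.Modules.pushforward e.inv)
    ((Scheme.Modules.pushforwardId X).symm ≪≫ Scheme.Modules.pushforwardCongr e.hom_inv_id.symm ≪≫
      (Scheme.Modules.pushforwardComp e.hom e.inv).symm)
    (Scheme.Modules.pushforwardComp e.inv e.hom ≪≫ Scheme.Modules.pushforwardCongr e.inv_hom_id ≪≫
      Scheme.Modules.pushforwardId Y)

/-- Pullback along an isomorphism is pushforward along the inverse. -/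
def pullbackInvIso {X Y : Scheme.{u}} (e : X ≅ Y) :
    Scheme.Modules.pullback e.inv ≅ Scheme.Modules.pushforward e.hom :=
  Adjunction.leftAdjointUniq (Scheme.Modules.pullbackPushforwardAdjunction e.inv)
    (pushforwardEquiv e).toAdjunction

lemma unitToPush_app {X Y : Scheme.{u}} (f : Y ⟶ X) (U : X.Opens) (a : Γ(X, U)) :
    (ClSub.unitToPush f).app U a = f.app U a := rfl

instance isIso_unitToPush {X Y : Scheme.{u}} (e : Y ⟶ X) [IsIso e] : IsIso (ClSub.unitToPush e) := by
  rw [Scheme.Modules.Hom.isIso_iff_isIso_app]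
  intro U
  rw [ConcreteCategory.isIso_iff_bijective]
  exact ConcreteCategory.bijective_of_isIso (e.app U)

lemma isIso_fromTildeΓ_of_iso {R : CommRingCat.{u}} {M N : (Spec R).Modules} (e : M ≅ N)
    [IsIso M.fromTildeΓ] : IsIso N.fromTildeΓ := by
  rw [isIso_fromTildeΓ_iff] at *
  exact Functor.essImage.ofIso e ‹_›

lemma isIso_fromTildeΓ_pushforward_unit {Z : Scheme.{u}} [IsAffine Z] {R : CommRingCat.{u}}
    (π : Z ⟶ Spec R) :
    IsIso ((Scheme.Modules.pushforward π).obj (Coh.structureModule Z)).fromTildeΓ := by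
  obtain ⟨ψ, hψ⟩ := Spec.map_surjective (Z.isoSpec.inv ≫ π)
  have h : IsIso (Coh.structureModule (Spec Γ(Z, ⊤))).fromTildeΓ :=
    inferInstanceAs (IsIso (Scheme.Modules.fromTildeΓ (SheafOfModules.unit.{u} (Spec Γ(Z, ⊤)).ringCatSheaf)))
  have h2 := isIso_fromTildeΓ_pushforward ψ (Coh.structureModule (Spec Γ(Z, ⊤))) (h := h)
  have hπ : Z.isoSpec.hom ≫ Spec.map ψ = π := by rw [hψ, Iso.hom_inv_id_assoc]
  exact isIso_fromTildeΓ_of_iso
    ((Scheme.Modules.pushforward (Spec.map ψ)).mapIso (asIso (ClSub.unitToPush Z.isoSpec.hom)) ≪≫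
      (Scheme.Modules.pushforwardComp Z.isoSpec.hom (Spec.map ψ)).app _ ≪≫
      (Scheme.Modules.pushforwardCongr hπ).app _)

variable {P : Scheme.{u}} {Q : CommRingCat.{u}} (K : P.IdealSheafData) (e : P ≅ Spec Q)

lemma isIso_fromTildeΓ_pushforward_idealMod :
    IsIso ((Scheme.Modules.pushforward e.hom).obj (ClSub.idealMod K)).fromTildeΓ := by
  have : IsAffine P := .of_isIso e.hom
  have : IsAffine K.subscheme := isAffine_of_isAffineHom K.subschemeι
  have := isIso_fromTildeΓ_pushforward_unit (R := Q) e.hom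
  have h2 := isIso_fromTildeΓ_pushforward_unit (R := Q) (K.subschemeι ≫ e.hom)
  have : IsIso ((Scheme.Modules.pushforward e.hom).obj ((Scheme.Modules.pushforward K.subschemeι).obj
      (Coh.structureModule K.subscheme))).fromTildeΓ :=
    isIso_fromTildeΓ_of_iso ((Scheme.Modules.pushforwardComp K.subschemeι e.hom).app _).symm
  have := isIso_fromTildeΓ_kernel ((Scheme.Modules.pushforward e.hom).map (ClSub.toSubscheme K))
  exact isIso_fromTildeΓ_of_iso
    (PreservesKernel.iso (Scheme.Modules.pushforward e.hom) (ClSub.toSubscheme K)).symm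

/-- The inclusion of the transported ideal module in the structure sheaf of `Spec Q`. -/
def idealInc : (Scheme.Modules.pushforward e.hom).obj (ClSub.idealMod K) ⟶
    Coh.structureModule (Spec Q) :=
  (Scheme.Modules.pushforward e.hom).map (ClSub.idealModι K) ≫ inv (ClSub.unitToPush e.hom)

lemma idealInc_spec (x : Γ((Scheme.Modules.pushforward e.hom).obj (ClSub.idealMod K), ⊤)) :
    e.hom.app ⊤ ((idealInc K e).app ⊤ x) = (ClSub.idealModι K).app ⊤ x := by
  change (ClSub.unitToPush e.hom).app ⊤ ((idealInc K e).app ⊤ x) = _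
  rw [← ConcreteCategory.comp_apply, ← Scheme.Modules.Hom.comp_app]
  simp only [idealInc, Category.assoc, IsIso.inv_hom_id, Category.comp_id]
  rfl

lemma idealInc_injective : Function.Injective ((idealInc K e).app ⊤) := fun x y h ↦ by
  apply kernel_ι_app_injective (ClSub.toSubscheme K) ⊤
  have h1 := congrArg (e.hom.app ⊤) h
  rw [idealInc_spec, idealInc_spec] at h1
  exact h1

lemma mem_range_idealInc (a : Γ(Spec Q, ⊤)) :
    a ∈ Set.range ((idealInc K e).app ⊤) ↔ K.subschemeι.appTop (e.hom.appTop a) = 0 := by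
  constructor
  · rintro ⟨x, rfl⟩
    have h := (mem_range_kernel_app_iff (ClSub.toSubscheme K) ⊤ _).mp ⟨x, rfl⟩
    rw [show e.hom.appTop ((idealInc K e).app ⊤ x) = (ClSub.idealModι K).app ⊤ x from idealInc_spec K e x]
    exact h
  · intro h
    obtain ⟨x, hx⟩ := exists_kernel_app_eq (ClSub.toSubscheme K) ⊤ (e.hom.app ⊤ a) h
    refine ⟨x, (ConcreteCategory.bijective_of_isIso (e.hom.app ⊤)).1 ?_⟩
    rw [idealInc_spec]
    exact hx

lemma smul_unit (q : Q) (a : Γ(Spec Q, ⊤)) :
    (show Γ(Spec Q, ⊤) from (q • (show Γ(Coh.structureModule (Spec Q), ⊤) from a) :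
      Γ(Coh.structureModule (Spec Q), ⊤))) = (Scheme.ΓSpecIso Q).inv q * a := by
  rw [Scheme.Modules.smul_Spec_def, show (Opens.leTop (⊤ : (Spec Q).Opens)).op = 𝟙 _ from rfl,
    (Spec Q).presheaf.map_id]
  rfl

/-- The global sections of the transported ideal module, as elements of the ring. -/
def idealToRing : moduleSpecΓFunctor.obj ((Scheme.Modules.pushforward e.hom).obj (ClSub.idealMod K))
    →ₗ[Q] Q where
  toFun x := (Scheme.ΓSpecIso Q).hom ((idealInc K e).app ⊤ x)
  map_add' x y := by
    exact (congrArg (Scheme.ΓSpecIso Q).hom (map_add ((idealInc K e).app ⊤).hom x y)).trans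
      (map_add (Scheme.ΓSpecIso Q).hom.hom _ _)
  map_smul' q x := by
    have h := (app_smul_Spec (idealInc K e) ⊤ q x).trans (smul_unit q _)
    refine (congrArg (Scheme.ΓSpecIso Q).hom h).trans ?_
    rw [map_mul, Iso.inv_hom_id_apply]
    rfl

lemma idealToRing_injective : Function.Injective (idealToRing K e) :=
  (ConcreteCategory.bijective_of_isIso (Scheme.ΓSpecIso Q).hom).1.comp (idealInc_injective K e)

lemma range_idealToRing :
    LinearMap.range (idealToRing K e) =
      RingHom.ker ((Scheme.ΓSpecIso Q).inv ≫ e.hom.appTop ≫ K.subschemeι.appTop).hom := by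
  ext q
  rw [LinearMap.mem_range, RingHom.mem_ker]
  constructor
  · rintro ⟨x, rfl⟩
    change K.subschemeι.appTop (e.hom.appTop ((Scheme.ΓSpecIso Q).inv ((Scheme.ΓSpecIso Q).hom _))) = 0
    rw [Iso.hom_inv_id_apply]
    exact (mem_range_idealInc K e _).mp ⟨x, rfl⟩
  · intro h
    obtain ⟨x, hx⟩ := (mem_range_idealInc K e _).mpr h
    exact ⟨x, (congrArg (Scheme.ΓSpecIso Q).hom hx).trans (Iso.inv_hom_id_apply _ _)⟩

/-- On `Spec Q` the transported ideal module is `tilde` of the ideal. -/
theorem nonempty_idealMod_iso_tilde (I : Ideal Q)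
    (hI : RingHom.ker ((Scheme.ΓSpecIso Q).inv ≫ e.hom.appTop ≫ K.subschemeι.appTop).hom = I) :
    Nonempty ((Scheme.Modules.pushforward e.hom).obj (ClSub.idealMod K) ≅ tilde (ModuleCat.of Q I)) := by
  have := isIso_fromTildeΓ_pushforward_idealMod K e
  subst hI
  let l := (LinearEquiv.ofInjective _ (idealToRing_injective K e)).trans
    (LinearEquiv.ofEq _ _ (range_idealToRing K e))
  exact ⟨(asIso (Scheme.Modules.fromTildeΓ
    ((Scheme.Modules.pushforward e.hom).obj (ClSub.idealMod K)))).symm ≪≫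
    (tilde.functor Q).mapIso l.toModuleIso⟩

section Kaehler

variable (R A : Type u) [CommRing R] [CommRing A] [Algebra R A]

lemma smul_kaehler_eq (q : A ⊗[R] A) (ω : Ω[A⁄R]) :
    q • ω = (Algebra.TensorProduct.lmul' (S := A) R q) • ω := by
  obtain ⟨x, rfl⟩ := KaehlerDifferential.fromIdeal_surjective R A ω
  have hmem : q - algebraMap A (A ⊗[R] A) (Algebra.TensorProduct.lmul' (S := A) R q) ∈
      KaehlerDifferential.ideal R A := by
    simp [KaehlerDifferential.ideal, Algebra.TensorProduct.algebraMap_apply]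
  rw [← IsScalarTower.algebraMap_smul (A ⊗[R] A) ((Algebra.TensorProduct.lmul' (S := A) R q)),
    ← map_smul, ← map_smul, ← sub_eq_zero, ← map_sub]
  refine Eq.trans (congrArg (KaehlerDifferential.fromIdeal R A)
    (show _ = (q - algebraMap A (A ⊗[R] A) (Algebra.TensorProduct.lmul' (S := A) R q)) • x by
      ext; simp [sub_mul])) ?_
  refine (Ideal.toCotangent_eq_zero _ _).mpr ?_
  rw [pow_two, Submodule.coe_smul, smul_eq_mul]
  exact Ideal.mul_mem_mul hmem x.2

/-- Base change of the diagonal ideal to `A` is the module of differentials. -/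
theorem nonempty_extendScalars_ideal_iso :
    Nonempty ((ModuleCat.extendScalars (Algebra.TensorProduct.lmul' (S := A) R).toRingHom).obj
      (ModuleCat.of (A ⊗[R] A) (KaehlerDifferential.ideal R A)) ≅ ModuleCat.of A Ω[A⁄R]) := by
  let μ := (Algebra.TensorProduct.lmul' (S := A) R).toRingHom
  have htower : @IsScalarTower (A ⊗[R] A) A Ω[A⁄R] μ.toAlgebra.toSMul _ _ :=
    @IsScalarTower.mk _ _ _ μ.toAlgebra.toSMul _ _ fun q a ω ↦
      (mul_smul (μ q) a ω).trans (smul_kaehler_eq R A q (a • ω)).symm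
  letI : Algebra (A ⊗[R] A) A := μ.toAlgebra
  obtain ⟨e⟩ := nonempty_extendScalars_iso (A' := A ⊗[R] A) (A := A)
    (KaehlerDifferential.ideal R A) μ rfl
  let F : A ⊗[A ⊗[R] A] (KaehlerDifferential.ideal R A) →ₗ[A] Ω[A⁄R] :=
    LinearMap.liftBaseChange A (KaehlerDifferential.fromIdeal R A)
  have hone : ∀ y : A ⊗[A ⊗[R] A] (KaehlerDifferential.ideal R A), ∃ x, y = 1 ⊗ₜ x := by
    intro y
    induction y with
    | zero => exact ⟨0, by simp⟩
    | tmul a x =>
      refine ⟨(a ⊗ₜ[R] (1 : A)) • x, ?_⟩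
      rw [← TensorProduct.smul_tmul, Algebra.smul_def]
      congr 1
      simp [μ, RingHom.algebraMap_toAlgebra]
    | add y z hy hz =>
      obtain ⟨a, rfl⟩ := hy
      obtain ⟨b, rfl⟩ := hz
      exact ⟨a + b, by rw [tmul_add]⟩
  have hsurj : Function.Surjective F := fun ω ↦ by
    obtain ⟨x, rfl⟩ := KaehlerDifferential.fromIdeal_surjective R A ω
    exact ⟨1 ⊗ₜ x, by simp [F]⟩
  have hinj : Function.Injective F := by
    rw [← LinearMap.ker_eq_bot, LinearMap.ker_eq_bot']
    intro y hy
    obtain ⟨x, rfl⟩ := hone y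
    simp only [F, LinearMap.liftBaseChange_tmul, one_smul] at hy
    have hx : x ∈ (KaehlerDifferential.ideal R A) • (⊤ : Submodule (A ⊗[R] A) (KaehlerDifferential.ideal R A)) := by
      refine Submodule.mem_smul_top_iff _ _ x |>.mpr ?_
      rw [smul_eq_mul, ← pow_two, ← Ideal.toCotangent_eq_zero]
      exact hy
    clear hy
    induction hx using Submodule.smul_induction_on' with
    | smul r hr n _ =>
      rw [← TensorProduct.smul_tmul, Algebra.smul_def, mul_one,
        show algebraMap (A ⊗[R] A) A r = 0 from hr, zero_tmul]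
    | add a _ b _ ha hb => rw [tmul_add, ha, hb, add_zero]
  exact ⟨e ≪≫ (LinearEquiv.ofBijective F ⟨hinj, hsurj⟩).toModuleIso⟩

/-- The sheaf of differentials of an affine morphism is `tilde` of the Kähler differentials. -/
theorem nonempty_omega_spec_iso :
    Nonempty (Omega.sheaf (Spec.map (CommRingCat.ofHom (algebraMap R A))) ≅
      tilde (R := CommRingCat.of A) (ModuleCat.of A (Ω[A⁄R]))) := by
  let Q : CommRingCat.{u} := CommRingCat.of (A ⊗[R] A)
  let g := Spec.map (CommRingCat.ofHom (algebraMap R A))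
  let e : pullback g g ≅ Spec Q := pullbackSpecIso R A A
  let μ : Q ⟶ CommRingCat.of A := CommRingCat.ofHom (Algebra.TensorProduct.lmul' (S := A) R).toRingHom
  let K := (pullback.diagonal g).ker
  have hΔ : Spec.map μ ≫ e.inv = pullback.diagonal g := by
    apply pullback.hom_ext
    · rw [Category.assoc, pullback.diagonal_fst]
      refine (congrArg (Spec.map μ ≫ ·) (pullbackSpecIso_inv_fst R A A)).trans ?_
      rw [← Spec.map_comp, ← Spec.map_id]
      congr 1
      ext a
      simp [μ]
      exact (Algebra.TensorProduct.lmul'_apply_tmul _ _).trans (mul_one a)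
    · rw [Category.assoc, pullback.diagonal_snd]
      refine (congrArg (Spec.map μ ≫ ·) (pullbackSpecIso_inv_snd R A A)).trans ?_
      rw [← Spec.map_comp, ← Spec.map_id]
      congr 1
      ext a
      simp [μ]
      exact (Algebra.TensorProduct.lmul'_apply_tmul _ _).trans (one_mul a)
  have : IsAffine (pullback g g) := .of_isIso e.hom
  have hker : RingHom.ker ((Scheme.ΓSpecIso Q).inv ≫ e.hom.appTop ≫ K.subschemeι.appTop).hom =
      KaehlerDifferential.ideal R A := by
    have hK : RingHom.ker K.subschemeι.appTop.hom = RingHom.ker (pullback.diagonal g).appTop.hom := by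
      rw [← FpqcDescent.ker_ideal_top, ← FpqcDescent.ker_ideal_top, Scheme.IdealSheafData.ker_subschemeι]
    have h1 : ((Scheme.ΓSpecIso Q).inv ≫ e.hom.appTop ≫ (pullback.diagonal g).appTop) =
        μ ≫ (Scheme.ΓSpecIso (CommRingCat.of A)).inv := by
      rw [← Scheme.Hom.comp_appTop, ← hΔ, Category.assoc, Iso.inv_hom_id, Category.comp_id,
        Scheme.ΓSpecIso_inv_naturality]
    rw [CommRingCat.hom_comp, CommRingCat.hom_comp, RingHom.comp_assoc, ← RingHom.comap_ker, hK,
      RingHom.comap_ker, ← RingHom.comp_assoc, ← CommRingCat.hom_comp, ← CommRingCat.hom_comp, h1,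
      CommRingCat.hom_comp, RingHom.ker_comp_of_injective]
    · rfl
    · exact (ConcreteCategory.bijective_of_isIso (Scheme.ΓSpecIso (CommRingCat.of A)).inv).1
  obtain ⟨i1⟩ := nonempty_idealMod_iso_tilde K e _ hker
  obtain ⟨i2⟩ := nonempty_extendScalars_ideal_iso R A
  exact ⟨(Scheme.Modules.pullbackCongr hΔ.symm).app _ ≪≫
    ((Scheme.Modules.pullbackComp (Spec.map μ) e.inv).app _).symm ≪≫
    (Scheme.Modules.pullback (Spec.map μ)).mapIso ((pullbackInvIso e).app _ ≪≫ i1) ≪≫
    (pullbackTildeIso μ).app _ ≪≫ (tilde.functor (CommRingCat.of A)).mapIso i2⟩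

end Kaehler

end Groth.Agent.QCohAffine
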