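import Groth.Prelude.Def_OmAff
import Groth.Agent.QCohAffine.Omega

set_option autoImplicit false
set_option backward.isDefEq.respectTransparency.types false

noncomputable section

universe u

open CategoryTheory Limits AlgebraicGeometry Opposite TopologicalSpace TensorProduct

namespace Groth.Agent.QCohAffine

variable {Q : CommRingCat.{u}}

lemma exists_hom_app_top (N F : (Spec Q).Modules) [IsIso N.fromTildeΓ]
    (g : (moduleSpecΓFunctor (R := Q)).obj N ⟶ (moduleSpecΓFunctor (R := Q)).obj F) :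
    ∃ ψ : N ⟶ F, ∀ x, ψ.app ⊤ x = g x := by
  let adj := tilde.adjunction (R := Q)
  let ψ : N ⟶ F := inv (adj.counit.app N) (I := (inferInstanceAs (IsIso N.fromTildeΓ))) ≫
    (adj.homEquiv _ _).symm g
  refine ⟨ψ, fun x ↦ ?_⟩
  have h0 : (adj.homEquiv _ _).symm g = adj.counit.app N ≫ ψ := by simp [ψ]
  have h : (moduleSpecΓFunctor (R := Q)).map ψ = g := by
    refine Eq.trans ?_ ((adj.homEquiv _ _).apply_symm_apply g)
    rw [h0, Adjunction.homEquiv_unit, Functor.map_comp, ← Category.assoc]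
    exact ((congrArg (· ≫ moduleSpecΓFunctor.map ψ) (adj.right_triangle_components N)).trans
      (Category.id_comp _)).symm
  exact congr($h x)

lemma hom_ext_top {N F : (Spec Q).Modules} [IsIso N.fromTildeΓ] {ψ ψ' : N ⟶ F}
    (h : ∀ x, ψ.app ⊤ x = ψ'.app ⊤ x) : ψ = ψ' := by
  rw [← cancel_epi N.fromTildeΓ]
  have h' : moduleSpecΓFunctor.map ψ = moduleSpecΓFunctor.map ψ' := ModuleCat.hom_ext (LinearMap.ext h)
  have n1 := Scheme.Modules.fromTildeΓNatTrans.naturality (X := N) (Y := F) ψ
  have n2 := Scheme.Modules.fromTildeΓNatTrans.naturality (X := N) (Y := F) ψ'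
  refine n1.symm.trans (Eq.trans ?_ n2)
  rw [Functor.comp_map, Functor.comp_map, h']

lemma smul_pushforward_pushforward {S : CommRingCat.{u}} {P : Scheme.{u}} {μ : Q ⟶ S}
    (d : Spec S ⟶ P) (h : P ⟶ Spec Q) (hd : d ≫ h = Spec.map μ) (F : (Spec S).Modules) (r : Q)
    (x : Γ((Scheme.Modules.pushforward h).obj ((Scheme.Modules.pushforward d).obj F), ⊤)) :
    (r • x : Γ((Scheme.Modules.pushforward h).obj ((Scheme.Modules.pushforward d).obj F), ⊤)) =
      ((μ.hom r) • (show Γ(F, ⊤) from x) : Γ(F, ⊤)) := by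
  rw [Scheme.Modules.smul_Spec_def, Scheme.Modules.smul_Spec_def]
  change (show Γ(Spec S, ⊤) from (d ≫ h).appTop ((Spec Q).presheaf.map
      (Opens.leTop (⊤ : (Spec Q).Opens)).op ((Scheme.ΓSpecIso Q).inv r))) •
        (show Γ(F, ⊤) from x) = _
  rw [hd, show (Opens.leTop (⊤ : (Spec Q).Opens)).op = 𝟙 _ from rfl,
    show (Opens.leTop (⊤ : (Spec S).Opens)).op = 𝟙 _ from rfl,
    (Spec Q).presheaf.map_id, (Spec S).presheaf.map_id]
  have h := ConcreteCategory.congr_hom (Scheme.ΓSpecIso_inv_naturality μ) r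
  simp only [ConcreteCategory.comp_apply] at h
  exact congrArg (fun c : Γ(Spec S, ⊤) ↦ c • (show Γ(F, ⊤) from x)) h.symm

section Generic

variable {P : Scheme.{u}} {S : CommRingCat.{u}} (e : P ≅ Spec Q) {μ : Q ⟶ S} (d : Spec S ⟶ P)
  (K : P.IdealSheafData)

lemma hom_ext_pullSect {ι : Type u}
    (m : ι → moduleSpecΓFunctor.obj ((Scheme.Modules.pushforward e.hom).obj (ClSub.idealMod K)))
    (hgen : Ideal.span (Set.range (idealToRing K e ∘ m)) = LinearMap.range (idealToRing K e))
    {F : (Spec S).Modules} (α β : (Scheme.Modules.pullback d).obj (ClSub.idealMod K) ⟶ F)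
    (h : ∀ i, α.app ⊤ (OmegaSh.pullSect d (ClSub.idealMod K) ⊤ (m i)) =
      β.app ⊤ (OmegaSh.pullSect d (ClSub.idealMod K) ⊤ (m i))) : α = β := by
  apply ((Scheme.Modules.pullbackPushforwardAdjunction d).homEquiv _ _).injective
  have : (Scheme.Modules.pushforward e.hom).Faithful := (pushforwardEquiv e).faithful_functor
  apply (Scheme.Modules.pushforward e.hom).map_injective
  have := isIso_fromTildeΓ_pushforward_idealMod K e
  apply hom_ext_top
  intro x
  have hspan : Submodule.span Q (Set.range m) = ⊤ := by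
    apply Submodule.map_injective_of_injective (idealToRing_injective K e)
    rw [Submodule.map_span, Submodule.map_top, ← Set.range_comp]
    exact hgen
  exact congr($(LinearMap.ext_on_range hspan
    (f := (moduleSpecΓFunctor.map ((Scheme.Modules.pushforward e.hom).map
      ((Scheme.Modules.pullbackPushforwardAdjunction d).homEquiv _ _ α))).hom)
    (g := (moduleSpecΓFunctor.map ((Scheme.Modules.pushforward e.hom).map
      ((Scheme.Modules.pullbackPushforwardAdjunction d).homEquiv _ _ β))).hom) (fun i ↦ h i)) x)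

lemma exists_pullback_to_tilde (hd : d ≫ e.hom = Spec.map μ) (N : ModuleCat.{u} S) (I : Ideal Q)
    (hI : ∀ x, idealToRing K e x ∈ I) (δ : I →+ N)
    (hδ : ∀ (q : Q) (x : I), δ (q • x) = μ.hom q • δ x) :
    ∃ φ : (Scheme.Modules.pullback d).obj (ClSub.idealMod K) ⟶ tilde N,
      ∀ x, φ.app ⊤ (OmegaSh.pullSect d (ClSub.idealMod K) ⊤ x) =
        (tilde.toOpen N ⊤) (δ ⟨idealToRing K e x, hI x⟩) := by
  have := isIso_fromTildeΓ_pushforward_idealMod K e
  let T : (Spec Q).Modules :=
    (Scheme.Modules.pushforward e.hom).obj ((Scheme.Modules.pushforward d).obj (tilde N))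
  let M0 : (Spec Q).Modules := (Scheme.Modules.pushforward e.hom).obj (ClSub.idealMod K)
  let g0 : (moduleSpecΓFunctor (R := Q)).obj M0 ⟶ (moduleSpecΓFunctor (R := Q)).obj T :=
    ConcreteCategory.ofHom (C := ModuleCat Q)
      (X := (moduleSpecΓFunctor (R := Q)).obj M0) (Y := (moduleSpecΓFunctor (R := Q)).obj T)
    { toFun := fun x ↦ (tilde.toOpen N ⊤) (δ ⟨idealToRing K e x, hI x⟩)
      map_add' := fun x y ↦ by
        rw [show (⟨idealToRing K e (x + y), hI _⟩ : I) =
            ⟨idealToRing K e x, hI x⟩ + ⟨idealToRing K e y, hI y⟩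
          from Subtype.ext (map_add (idealToRing K e) x y), map_add]
        exact map_add (tilde.toOpen N ⊤).hom _ _
      map_smul' := fun q x ↦ by
        rw [show (⟨idealToRing K e (q • x), hI _⟩ : I) = q • ⟨idealToRing K e x, hI x⟩
          from Subtype.ext (map_smul (idealToRing K e) q x), hδ]
        exact (map_smul (tilde.toOpen N ⊤).hom _ _).trans
          (smul_pushforward_pushforward d e.hom hd (tilde N) q _).symm }
  obtain ⟨ψ', hψ'⟩ := exists_hom_app_top ((Scheme.Modules.pushforward e.hom).obj (ClSub.idealMod K)) T g0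
  have : (Scheme.Modules.pushforward e.hom).Full := (pushforwardEquiv e).full_functor
  obtain ⟨ψ, rfl⟩ := (Scheme.Modules.pushforward e.hom).map_surjective ψ'
  let adj := Scheme.Modules.pullbackPushforwardAdjunction d
  refine ⟨(adj.homEquiv _ _).symm ψ, fun x ↦ ?_⟩
  have h := congr(Scheme.Modules.Hom.app $((adj.homEquiv _ _).apply_symm_apply ψ) ⊤ x)
  refine (Eq.trans ?_ h).trans (hψ' x)
  rfl

lemma bijective_of_hom_ext {Om : (Spec S).Modules} {N : ModuleCat.{u} S} {ι : Type u}
    (t : N →+ Γ(Om, ⊤)) (ht : ∀ (a : S) (x : N), t (a • x) = a • t x)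
    (v : ι → N) (hv : Submodule.span S (Set.range v) = ⊤)
    (hext : ∀ α β : Om ⟶ Om, (∀ i, α.app ⊤ (t (v i)) = β.app ⊤ (t (v i))) → α = β)
    (φ : Om ⟶ tilde N) (hφ : ∀ i, φ.app ⊤ (t (v i)) = (tilde.toOpen N ⊤) (v i)) :
    Function.Bijective t := by
  let l : N ⟶ moduleSpecΓFunctor.obj Om :=
    ModuleCat.ofHom (Y := moduleSpecΓFunctor.obj Om) { toFun := t, map_add' := map_add t, map_smul' := ht }
  have hlin : ∀ x, φ.app ⊤ (t x) = (tilde.toOpen N ⊤) x := fun x ↦
    congr($(LinearMap.ext_on_range hv (f := (l ≫ moduleSpecΓFunctor.map φ).hom)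
      (g := (tilde.toOpen N ⊤).hom) hφ) x)
  let τ := ((tilde.adjunction (R := S)).homEquiv _ _).symm l
  have h2 : ∀ y, τ.app ⊤ ((tilde.toOpen N ⊤) y) = t y := fun y ↦
    congr($(((tilde.adjunction (R := S)).homEquiv _ _).apply_symm_apply l) y)
  have h3 : φ ≫ τ = 𝟙 _ := hext _ _ fun i ↦ by
    rw [Scheme.Modules.Hom.comp_app, ConcreteCategory.comp_apply, hφ]
    exact h2 _
  have hto : Function.Bijective (tilde.toOpen N ⊤) :=
    ConcreteCategory.bijective_of_isIso (tilde.toOpen N ⊤)
  refine ⟨fun x y h ↦ hto.1 (by rw [← hlin, ← hlin, h]), fun z ↦ ?_⟩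
  obtain ⟨y, hy⟩ := hto.2 (φ.app ⊤ z)
  refine ⟨y, ?_⟩
  rw [← h2 y, hy]
  exact congr(Scheme.Modules.Hom.app $h3 ⊤ z)

end Generic

section

variable (R A : Type u) [CommRing R] [CommRing A] [Algebra R A]

local notation "gA" => Spec.map (CommRingCat.ofHom (algebraMap R A))

/-- The multiplication map. -/
abbrev mulHom : CommRingCat.of (A ⊗[R] A) ⟶ CommRingCat.of A :=
  CommRingCat.ofHom (Algebra.TensorProduct.lmul' (S := A) R).toRingHom

lemma diagonal_comp_isoHom :
    pullback.diagonal gA ≫ (pullbackSpecIso R A A).hom = Spec.map (mulHom R A) := by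
  rw [← Iso.eq_comp_inv]
  symm
  apply pullback.hom_ext
  · rw [Category.assoc, pullback.diagonal_fst]
    refine (congrArg (Spec.map (mulHom R A) ≫ ·) (pullbackSpecIso_inv_fst R A A)).trans ?_
    rw [← Spec.map_comp, ← Spec.map_id]
    congr 1
    ext a
    simp
    try exact (Algebra.TensorProduct.lmul'_apply_tmul _ _).trans (mul_one a)
  · rw [Category.assoc, pullback.diagonal_snd]
    refine (congrArg (Spec.map (mulHom R A) ≫ ·) (pullbackSpecIso_inv_snd R A A)).trans ?_
    rw [← Spec.map_comp, ← Spec.map_id]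
    congr 1
    ext a
    simp
    try exact (Algebra.TensorProduct.lmul'_apply_tmul _ _).trans (one_mul a)

local notation "KA" => Scheme.Hom.ker (pullback.diagonal gA)
local notation "eA" => pullbackSpecIso R A A

lemma range_idealToRing_diagonal :
    LinearMap.range (idealToRing (Q := CommRingCat.of (A ⊗[R] A)) KA eA) =
      KaehlerDifferential.ideal R A := by
  have : IsAffine (pullback gA gA) := .of_isIso (pullbackSpecIso R A A).hom
  refine (range_idealToRing (Q := CommRingCat.of (A ⊗[R] A)) KA eA).trans ?_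
  have hK : RingHom.ker (Scheme.IdealSheafData.subschemeι KA).appTop.hom =
      RingHom.ker (pullback.diagonal gA).appTop.hom := by
    rw [← FpqcDescent.ker_ideal_top, ← FpqcDescent.ker_ideal_top, Scheme.IdealSheafData.ker_subschemeι]
  have h1 : ((Scheme.ΓSpecIso (CommRingCat.of (A ⊗[R] A))).inv ≫ (pullbackSpecIso R A A).hom.appTop ≫
      (pullback.diagonal gA).appTop) = mulHom R A ≫ (Scheme.ΓSpecIso (CommRingCat.of A)).inv := by
    rw [← Scheme.Hom.comp_appTop, diagonal_comp_isoHom, Scheme.ΓSpecIso_inv_naturality]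
  rw [CommRingCat.hom_comp, CommRingCat.hom_comp, RingHom.comp_assoc, ← RingHom.comap_ker, hK,
    RingHom.comap_ker, ← RingHom.comp_assoc, ← CommRingCat.hom_comp, ← CommRingCat.hom_comp, h1,
    CommRingCat.hom_comp, RingHom.ker_comp_of_injective]
  · rfl
  · exact (ConcreteCategory.bijective_of_isIso (Scheme.ΓSpecIso (CommRingCat.of A)).inv).1

lemma top_le_diagNbhd : ⊤ ≤ OmegaSh.diagNbhd gA ⊤ := fun _ _ ↦ ⟨trivial, trivial⟩

/-- `1 ⊗ b - b ⊗ 1` as a global section of the ideal module of the diagonal. -/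
def diagSect (b : A) : Γ((Scheme.Modules.pushforward (pullbackSpecIso R A A).hom).obj (ClSub.idealMod KA), ⊤) :=
  (ClSub.idealMod KA).presheaf.map (homOfLE (top_le_diagNbhd R A)).op
    (OmegaSh.idealLift gA ⊤ (OmAff.toΓ A b))

lemma pullSect_diagSect (b : A) :
    OmegaSh.pullSect (pullback.diagonal gA) (ClSub.idealMod KA) ⊤ (diagSect R A b) =
      OmegaSh.dSect gA ⊤ (OmAff.toΓ A b) := by
  unfold diagSect OmegaSh.dSect
  exact OmegaSh.pullSect_map _ _ _ _

lemma idealToRing_diagSect (b : A) :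
    idealToRing (Q := CommRingCat.of (A ⊗[R] A)) KA eA (diagSect R A b) =
      1 ⊗ₜ b - b ⊗ₜ 1 := by
  apply (ConcreteCategory.bijective_of_isIso (C := CommRingCat)
    (asIso (Scheme.ΓSpecIso (CommRingCat.of (A ⊗[R] A))).inv ≪≫
      asIso ((pullbackSpecIso R A A).hom.app ⊤)).hom).1
  simp only [Iso.trans_hom, asIso_hom]
  rw [ConcreteCategory.comp_apply, ConcreteCategory.comp_apply]
  change (pullbackSpecIso R A A).hom.appTop ((Scheme.ΓSpecIso _).inv ((Scheme.ΓSpecIso _).hom
    ((idealInc KA eA).app ⊤ (diagSect R A b)))) = _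
  rw [Iso.hom_inv_id_apply]
  refine (idealInc_spec (Q := CommRingCat.of (A ⊗[R] A)) KA eA _).trans ?_
  refine (OmegaSh.idealModι_app_map _ _ (top_le_diagNbhd R A) _).trans ?_
  rw [OmegaSh.ι_idealLift, ← OmegaSh.strSect_map, OmegaSh.diagDiff]
  simp only [map_sub]
  have hfst := pullbackSpecIso_hom_fst R A A
  have hsnd := pullbackSpecIso_hom_snd R A A
  congr 1
  · rw [← ConcreteCategory.comp_apply, Scheme.Hom.appLE_map]
    have h2 := congrArg Scheme.Hom.appTop hsnd
    rw [Scheme.Hom.comp_appTop] at h2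
    have h3 := ConcreteCategory.congr_hom h2 ((Scheme.ΓSpecIso (CommRingCat.of A)).inv b)
    rw [ConcreteCategory.comp_apply, ← ConcreteCategory.comp_apply (f := (Scheme.ΓSpecIso _).inv),
      ← Scheme.ΓSpecIso_inv_naturality, ConcreteCategory.comp_apply] at h3
    simp [Scheme.Hom.appLE]
    exact h3.symm
  · rw [← ConcreteCategory.comp_apply, Scheme.Hom.appLE_map]
    have h2 := congrArg Scheme.Hom.appTop hfst
    rw [Scheme.Hom.comp_appTop] at h2
    have h3 := ConcreteCategory.congr_hom h2 ((Scheme.ΓSpecIso (CommRingCat.of A)).inv b)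
    rw [ConcreteCategory.comp_apply, ← ConcreteCategory.comp_apply (f := (Scheme.ΓSpecIso _).inv),
      ← Scheme.ΓSpecIso_inv_naturality, ConcreteCategory.comp_apply] at h3
    simp [Scheme.Hom.appLE]
    exact h3.symm

lemma idealToRing_diagSect_range :
    Ideal.span (Set.range (idealToRing (Q := CommRingCat.of (A ⊗[R] A)) KA eA ∘ diagSect R A)) =
      LinearMap.range (idealToRing (Q := CommRingCat.of (A ⊗[R] A)) KA eA) := by
  rw [range_idealToRing_diagonal,
    show (idealToRing (Q := CommRingCat.of (A ⊗[R] A)) KA eA) ∘ diagSect R A =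
      fun b : A ↦ (1 : A) ⊗ₜ[R] b - b ⊗ₜ[R] (1 : A) from funext (idealToRing_diagSect R A)]
  exact KaehlerDifferential.span_range_eq_ideal R A

/-- The canonical map from Kähler differentials to global sections of the sheaf of differentials is
bijective. -/
theorem bijective_toSpec : Function.Bijective (OmAff.toSpec R A) := by
  let δ : KaehlerDifferential.ideal R A →+ Ω[A⁄R] :=
    (KaehlerDifferential.fromIdeal R A).toAddMonoidHom
  obtain ⟨φ, hφ⟩ := exists_pullback_to_tilde (Q := CommRingCat.of (A ⊗[R] A))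
    (S := CommRingCat.of A) (μ := mulHom R A) (pullbackSpecIso R A A) (pullback.diagonal gA) KA
    (diagonal_comp_isoHom R A) (ModuleCat.of A Ω[A⁄R]) (KaehlerDifferential.ideal R A)
    (fun x ↦ (range_idealToRing_diagonal R A).le ⟨x, rfl⟩) δ
    (fun q x ↦ by
      change KaehlerDifferential.fromIdeal R A ((show A ⊗[R] A from q) • x) = _
      rw [map_smul, smul_kaehler_eq]
      rfl)
  refine bijective_of_hom_ext (S := CommRingCat.of A) (Om := Omega.sheaf gA)
    (N := ModuleCat.of A Ω[A⁄R]) (OmAff.toSpec R A).toAddMonoidHom ?_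
    (KaehlerDifferential.D R A) (KaehlerDifferential.span_range_derivation R A) ?_ φ ?_
  · intro a x
    change OmAff.toSpec R A ((show A from a) • (show Ω[A⁄R] from x)) = _
    rw [LinearMap.map_smulₛₗ, Scheme.Modules.smul_Spec_def,
      show (Opens.leTop (⊤ : (Spec (CommRingCat.of A)).Opens)).op = 𝟙 _ from rfl,
      (Spec (CommRingCat.of A)).presheaf.map_id]
    rfl
  · intro α β h
    refine hom_ext_pullSect (Q := CommRingCat.of (A ⊗[R] A)) (pullbackSpecIso R A A)
      (pullback.diagonal gA) KA (diagSect R A) (idealToRing_diagSect_range R A) α β fun b ↦ ?_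
    have h' := h b
    rw [pullSect_diagSect, ← OmAff.toSpec_D]
    exact h'
  · intro b
    change φ.app ⊤ (OmAff.toSpec R A (KaehlerDifferential.D R A b)) = _
    rw [OmAff.toSpec_D, ← pullSect_diagSect]
    refine (hφ _).trans (congrArg _ ?_)
    rw [KaehlerDifferential.D_apply]
    exact congrArg (KaehlerDifferential.fromIdeal R A) (Subtype.ext (idealToRing_diagSect R A b))

end

end Groth.Agent.QCohAffine
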